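import Cfsg.Agent.Lib.Small.SylowToolkit
import Cfsg.Agent.S0111
import Cfsg.Agent.S1018
import Mathlib.GroupTheory.GroupAction.Period

/-!
Involutions of simple groups whose Sylow 2-subgroups have order at most eight; degree twenty.
-/

set_option autoImplicit false

namespace Cfsg.Agent.J1Order

theorem fano : ∀ a b ab c ac bc abc : Bool,
    (a == b && a == ab) || (a == c && a == ac) || (b == c && b == bc) || (a == bc && a == abc) ||
      (b == ac && b == abc) || (c == ab && c == abc) || (ab == ac && ab == bc) := by decide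

variable {G : Type*} [Group G] [Finite G]

/-- The four elements generated by two commuting involutions. -/
def four (a b : G) (ha : a * a = 1) (hb : b * b = 1) (hab : a * b = b * a) : Subgroup G :=
  Subgroup.ofDiv ({1, a, b, a * b} : Set G) ⟨1, by simp⟩ (by
    have e1 : a⁻¹ = a := inv_eq_of_mul_eq_one_right ha
    have e2 : b⁻¹ = b := inv_eq_of_mul_eq_one_right hb
    have e3 : a * (a * b) = b := by rw [← mul_assoc, ha, one_mul]
    have e4 : b * (a * b) = a := by rw [hab, ← mul_assoc, hb, one_mul]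
    have e5 : a * b * a = b := by rw [hab, mul_assoc, ha, mul_one]
    have e6 : a * b * b = a := by rw [mul_assoc, hb, mul_one]
    have e7 : a * b * (a * b) = 1 := by rw [← mul_assoc, e5, hb]
    have e8 : (a * b)⁻¹ = a * b := inv_eq_of_mul_eq_one_right e7
    intro x hx y hy
    rcases hx with h | h | h | h <;> rcases hy with k | k | k | k <;> rw [h, k] <;>
      simp [ha, hb, ← hab, e1, e2, e3, e4, e5, e6, e7, e8])

theorem exists_uniform (S : Sylow 2 G) (h8 : Nat.card (S : Subgroup G) = 8) (F : G → Bool) :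
    ∃ Q : Subgroup G, Q ≤ (S : Subgroup G) ∧ Q.relIndex (S : Subgroup G) = 2 ∧
      ∀ x ∈ Q, ∀ y ∈ Q, orderOf x = 2 → orderOf y = 2 → F x = F y := by
  classical
  have hrel : ∀ Q : Subgroup G, Q ≤ (S : Subgroup G) → Nat.card Q = 4 → Q.relIndex (S : Subgroup G) = 2 := by
    intro Q hQ h4
    have := (Q.subgroupOf (S : Subgroup G)).card_mul_index
    rw [Nat.card_congr (Subgroup.subgroupOfEquivOfLe hQ).toEquiv, h4, h8] at this
    rw [Subgroup.relIndex]; omega
  by_cases hcyc : ∃ x ∈ (S : Subgroup G), orderOf x = 4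
  · obtain ⟨x, hx, hx4⟩ := hcyc
    refine ⟨Subgroup.zpowers x, Subgroup.zpowers_le.2 hx,
      hrel _ (Subgroup.zpowers_le.2 hx) (by rw [Nat.card_zpowers, hx4]), ?_⟩
    have key : ∀ u ∈ Subgroup.zpowers x, orderOf u = 2 → u = x ^ 2 := by
      intro u hu hu2
      obtain ⟨k, hk, rfl⟩ := (IsOfFinOrder.mem_zpowers_iff_mem_range_orderOf (isOfFinOrder_of_finite x)).1 hu
        |> Finset.mem_image.1 |> fun ⟨k, hk, e⟩ => (⟨k, Finset.mem_range.1 hk, e.symm⟩ : ∃ k, k < orderOf x ∧ u = x ^ k)
      rw [hx4] at hk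
      rw [orderOf_pow, hx4] at hu2
      interval_cases k <;> simp_all
    intro u hu v hv hu2 hv2
    rw [key u hu hu2, key v hv hv2]
  · push Not at hcyc
    by_cases hcyc8 : ∃ x ∈ (S : Subgroup G), orderOf x = 8
    · obtain ⟨x, hx, hx8⟩ := hcyc8
      exact absurd (by rw [orderOf_pow, hx8]; rfl) (hcyc (x ^ 2) (pow_mem hx 2))
    push Not at hcyc8
    have hexp : ∀ x ∈ (S : Subgroup G), x * x = 1 := by
      intro x hx
      have hd : orderOf x ∣ 2 ^ 3 :=
        (Subgroup.orderOf_dvd_natCard _ hx).trans (dvd_of_eq h8)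
      obtain ⟨i, hi, e⟩ := (Nat.dvd_prime_pow Nat.prime_two).1 hd
      interval_cases i
      · rw [pow_zero, orderOf_eq_one_iff] at e; simp [e]
      · rw [← pow_two, ← pow_orderOf_eq_one x, e, pow_one]
      · exact absurd e (hcyc x hx)
      · exact absurd e (hcyc8 x hx)
    have hcomm : ∀ x ∈ (S : Subgroup G), ∀ y ∈ (S : Subgroup G), x * y = y * x := by
      intro x hx y hy
      have h1 := hexp (x * y) (mul_mem hx hy)
      have e1 : x⁻¹ = x := inv_eq_of_mul_eq_one_right (hexp x hx)
      have e2 : y⁻¹ = y := inv_eq_of_mul_eq_one_right (hexp y hy)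
      have := inv_eq_of_mul_eq_one_right h1
      rw [mul_inv_rev, e1, e2] at this
      exact this.symm
    have hex : ∀ T : Finset G, T.card < 8 → ∃ w ∈ (S : Subgroup G), w ∉ T := by
      intro T hT
      by_contra hc
      push Not at hc
      have h := Nat.card_le_card_of_injective
        (fun w : (S : Subgroup G) => (⟨w.1, hc w.1 w.2⟩ : T)) (fun a b e => Subtype.ext (Subtype.mk.injEq _ _ _ _ ▸ e))
      rw [h8, Nat.card_eq_finsetCard] at h
      omega
    obtain ⟨a, ha, ha1⟩ := hex {1} (by simp)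
    obtain ⟨b, hb, hb1⟩ := hex {1, a} (by grw [Finset.card_insert_le]; simp)
    obtain ⟨c, hc, hc1⟩ := hex {1, a, b, a * b} (by
      grw [Finset.card_insert_le, Finset.card_insert_le, Finset.card_insert_le]; simp)
    simp only [Finset.mem_insert, Finset.mem_singleton, not_or] at ha1 hb1 hc1
    have mk : ∀ x y : G, x ∈ (S : Subgroup G) → y ∈ (S : Subgroup G) → x ≠ 1 → y ≠ 1 → x ≠ y →
        F x = F y → F x = F (x * y) → ∃ Q : Subgroup G, Q ≤ (S : Subgroup G) ∧
          Q.relIndex (S : Subgroup G) = 2 ∧ ∀ u ∈ Q, ∀ v ∈ Q, orderOf u = 2 → orderOf v = 2 → F u = F v := by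
      intro x y hx hy hx1 hy1 hxy e1 e2
      set Q := four x y (hexp x hx) (hexp y hy) (hcomm x hx y hy)
      have hQ : (Q : Set G) = ({1, x, y, x * y} : Set G) := rfl
      have hQS : Q ≤ (S : Subgroup G) := by
        intro w hw
        have hw' : w ∈ ({1, x, y, x * y} : Set G) := hw
        rcases hw' with rfl | rfl | rfl | rfl
        exacts [one_mem _, hx, hy, mul_mem hx hy]
      refine ⟨Q, hQS, hrel Q hQS ?_, ?_⟩
      · show Nat.card (({1, x, y, x * y} : Set G)) = 4
        have n1 : x * y ≠ 1 := fun e => hxy (by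
          rw [← inv_eq_of_mul_eq_one_right e, inv_eq_of_mul_eq_one_right (hexp x hx)])
        rw [Nat.card_coe_set_eq, Set.ncard_insert_of_notMem (by simp [hx1.symm, hy1.symm, n1.symm]),
          Set.ncard_insert_of_notMem (by simp [hxy, hy1]), Set.ncard_pair (fun e => hx1 (by simpa using e))]
      · have key : ∀ u ∈ Q, orderOf u = 2 → F u = F x := by
          intro u hu hu2
          have hu' : u ∈ ({1, x, y, x * y} : Set G) := hu
          rcases hu' with rfl | rfl | rfl | rfl
          · simp at hu2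
          exacts [rfl, e1.symm, e2.symm]
        intro u hu v hv hu2 hv2
        rw [key u hu hu2, key v hv hv2]
    have na : a⁻¹ = a := inv_eq_of_mul_eq_one_right (hexp a ha)
    have nb : b⁻¹ = b := inv_eq_of_mul_eq_one_right (hexp b hb)
    have hba : b * a = a * b := hcomm b hb a ha
    have hab : a * b ∈ (S : Subgroup G) := mul_mem ha hb
    have hac : a * c ∈ (S : Subgroup G) := mul_mem ha hc
    have hbc : b * c ∈ (S : Subgroup G) := mul_mem hb hc
    obtain ⟨hc0, hca, hcb, hcab⟩ := hc1
    have n1 : a * b ≠ 1 := fun e => hb1.2 (by rw [← inv_eq_of_mul_eq_one_right e, na])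
    have n2 : a * c ≠ 1 := fun e => hca (by rw [← inv_eq_of_mul_eq_one_right e, na])
    have n3 : b * c ≠ 1 := fun e => hcb (by rw [← inv_eq_of_mul_eq_one_right e, nb])
    have n4 : a ≠ b * c := fun e => hcab (by rw [← hba, e, ← mul_assoc, hexp b hb, one_mul])
    have n5 : b ≠ a * c := fun e => hcab (by rw [e, ← mul_assoc, hexp a ha, one_mul])
    have n6 : c ≠ a * b := hcab
    have n7 : a * b ≠ a * c := fun e => hcb (mul_left_cancel e).symm
    have f1 : a * (b * c) = a * b * c := (mul_assoc a b c).symm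
    have f2 : b * (a * c) = a * b * c := by rw [← mul_assoc, hba]
    have f3 : c * (a * b) = a * b * c := hcomm c hc _ hab
    have f4 : a * b * (a * c) = b * c := by
      rw [← mul_assoc, ← hba, mul_assoc b a a, hexp a ha, mul_one]
    have h := fano (F a) (F b) (F (a * b)) (F c) (F (a * c)) (F (b * c)) (F (a * b * c))
    simp only [Bool.or_eq_true, Bool.and_eq_true, beq_iff_eq] at h
    rcases h with ((((((⟨p, q⟩ | ⟨p, q⟩) | ⟨p, q⟩) | ⟨p, q⟩) | ⟨p, q⟩) | ⟨p, q⟩) | ⟨p, q⟩)
    · exact mk a b ha hb ha1 hb1.1 (Ne.symm hb1.2) p q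
    · exact mk a c ha hc ha1 hc0 (Ne.symm hca) p q
    · exact mk b c hb hc hb1.1 hc0 (Ne.symm hcb) p q
    · exact mk a (b * c) ha hbc ha1 n3 n4 p (f1 ▸ q)
    · exact mk b (a * c) hb hac hb1.1 n2 n5 p (f2 ▸ q)
    · exact mk c (a * b) hc hab hc0 n1 n6 p (f3 ▸ q)
    · exact mk (a * b) (a * c) hab hac n1 n2 n7 p (f4 ▸ q)

/-- All involutions are conjugate. -/
theorem one_class [IsSimpleGroup G] (hG : ¬ IsMulCommutative G)
    (h8 : ∀ S : Sylow 2 G, Nat.card (S : Subgroup G) ∣ 8) {t u : G} (ht : orderOf t = 2) (hu : orderOf u = 2) :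
    IsConj t u := by
  classical
  haveI : Fact (Nat.Prime 2) := ⟨Nat.prime_two⟩
  by_contra hne
  let F : G → Bool := fun x => decide (IsConj t x)
  obtain ⟨S⟩ : Nonempty (Sylow 2 G) := inferInstance
  have hmove : ∀ w : G, orderOf w = 2 → ∃ g : G, g * w * g⁻¹ ∈ (S : Subgroup G) := by
    intro w hw
    obtain ⟨T, hT⟩ := (IsPGroup.of_card (n := 1)
      (by rw [Nat.card_zpowers, hw, pow_one]) : IsPGroup 2 (Subgroup.zpowers w)).exists_le_sylow
    obtain ⟨g, hg⟩ := MulAction.exists_smul_eq G T S
    refine ⟨g, ?_⟩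
    rw [← hg, Sylow.smul_def, Sylow.pointwise_smul_def]
    have := Subgroup.smul_mem_pointwise_smul w (MulAut.conj g) (T : Subgroup G) (hT (Subgroup.mem_zpowers w))
    simpa using this
  have hord : ∀ w g : G, orderOf (g * w * g⁻¹) = orderOf w := fun w g => (MulAut.conj g).orderOf_eq w
  have key : ∃ Q : Subgroup G, Q ≤ (S : Subgroup G) ∧ Q.relIndex (S : Subgroup G) = 2 ∧
      ∀ x ∈ Q, ∀ y ∈ Q, orderOf x = 2 → orderOf y = 2 → F x = F y := by
    have hd : Nat.card (S : Subgroup G) ∣ 2 ^ 3 := h8 S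
    obtain ⟨i, hi, e⟩ := (Nat.dvd_prime_pow Nat.prime_two).1 hd
    obtain ⟨g, hg⟩ := hmove t ht
    have h2 : 2 ∣ Nat.card (S : Subgroup G) :=
      (dvd_of_eq ((hord t g).trans ht).symm).trans (Subgroup.orderOf_dvd_natCard _ hg)
    by_cases hi3 : i = 3
    · subst hi3; exact exists_uniform S e F
    obtain ⟨K, hK⟩ := Small.exists_index_eq_prime (p := 2) S.isPGroup' (by
      exact lt_of_lt_of_le one_lt_two (Nat.le_of_dvd Nat.card_pos h2))
    refine ⟨K.map (S : Subgroup G).subtype, Subgroup.map_subtype_le _, by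
      rw [Subgroup.relIndex, Subgroup.subgroupOf,
        Subgroup.comap_map_eq_self_of_injective (S : Subgroup G).subtype_injective, hK], ?_⟩
    intro x hx y hy hx2 hy2
    obtain ⟨x', hx', rfl⟩ := hx
    obtain ⟨y', hy', rfl⟩ := hy
    have hc : Nat.card K ≤ 2 := by
      have := K.card_mul_index
      rw [hK, e] at this
      interval_cases i <;> omega
    suffices x' = y' by rw [this]
    by_contra hxy
    have h3 : ({⟨1, one_mem K⟩, ⟨x', hx'⟩, ⟨y', hy'⟩} : Finset K).card = 3 := by
      rw [Finset.card_insert_of_notMem, Finset.card_pair]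
      · exact fun h => hxy (congrArg Subtype.val h)
      · simp only [Finset.mem_insert, Finset.mem_singleton, Subtype.mk.injEq, not_or]
        exact ⟨fun h => by simp [← h] at hx2, fun h => by simp [← h] at hy2⟩
    letI := Fintype.ofFinite K
    have := Finset.card_le_univ ({⟨1, one_mem K⟩, ⟨x', hx'⟩, ⟨y', hy'⟩} : Finset K)
    rw [← Nat.card_eq_fintype_card] at this
    omega
  obtain ⟨Q, hQS, hQi, hQ⟩ := key
  have hinQ : ∀ w : G, orderOf w = 2 → ∃ g : G, g * w * g⁻¹ ∈ Q := by
    intro w hw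
    obtain ⟨g, hg⟩ := hmove w hw
    by_cases hgQ : g * w * g⁻¹ ∈ Q
    · exact ⟨g, hgQ⟩
    rcases S0111.result S Q hQS hQi _ ((hord w g).trans hw) hg hgQ with ⟨M, hM, hM2, hMu⟩ | ⟨k, hk⟩
    · rcases hM.eq_bot_or_eq_top with rfl | rfl
      · refine absurd ?_ hG
        rw [Subgroup.index_bot] at hM2
        haveI := isCyclic_of_prime_card (p := 2) hM2
        infer_instance
      · exact absurd (Subgroup.mem_top _) hMu
    · exact ⟨k * g, by simpa [mul_assoc] using hk⟩
  obtain ⟨g, hg⟩ := hinQ t ht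
  obtain ⟨k, hk⟩ := hinQ u hu
  have e := hQ _ hg _ hk ((hord t g).trans ht) ((hord u k).trans hu)
  have h1 : IsConj t (g * t * g⁻¹) := isConj_iff.2 ⟨g, rfl⟩
  have h2 : IsConj t (k * u * k⁻¹) := by simpa [F, h1] using e.symm
  exact hne (h2.trans (isConj_iff.2 ⟨k, rfl⟩).symm)

/-- Twenty Sylow 19-subgroups: self-centralizing, with a normalizer of odd order. -/
theorem degree_twenty [IsSimpleGroup G] (hG : ¬ IsMulCommutative G) [Fact (Nat.Prime 19)]
    (P : Sylow 19 G) (hP : Nat.card (P : Subgroup G) = 19) (h20 : Nat.card (Sylow 19 G) = 20)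
    (hd2 : ¬ 19 * 19 ∣ Nat.card G) :
    Nat.card (Subgroup.centralizer ((P : Subgroup G) : Set G)) = 19 ∧
      ¬ 2 ∣ Nat.card (Subgroup.normalizer ((P : Subgroup G) : Set G)) := by
  classical
  set N := Subgroup.normalizer ((P : Subgroup G) : Set G) with hN
  set C := Subgroup.centralizer ((P : Subgroup G) : Set G) with hCdef
  have hidx : Nat.card (G ⧸ N) = 20 := by rw [← Subgroup.index, ← h20]; exact (Small.card_eq_index P).symm
  have hNtop : N ≠ ⊤ := by
    intro h
    rw [← Subgroup.index_eq_one, ← Small.card_eq_index P] at h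
    omega
  have hinj := Small.toPermHom_injective hNtop
  obtain ⟨v, hv⟩ := exists_prime_orderOf_dvd_card' (G := (P : Subgroup G)) 19 (dvd_of_eq hP.symm)
  have hvo : orderOf (v : G) = 19 := by rw [Subgroup.orderOf_coe, hv]
  have hfix1 := (S1018.result 19 P hP).1 v hvo
  set o : G ⧸ N := ((1 : G) : G ⧸ N)
  have hmemo : ∀ w ∈ N, w • o = o := by
    intro w hw
    show ((w * 1 : G) : G ⧸ N) = ((1 : G) : G ⧸ N)
    rw [QuotientGroup.eq]; simpa using inv_mem hw
  have huniq : ∀ z : G ⧸ N, (v : G) • z = z → z = o := by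
    intro z hz
    have := (Nat.card_eq_one_iff_unique.1 hfix1).1
    exact congrArg Subtype.val (this.elim (⟨z, hz⟩ : MulAction.fixedBy (G ⧸ N) (v : G))
      ⟨o, hmemo _ (Subgroup.le_normalizer v.2)⟩)
  have hC19 : ∀ x ∈ C, ∀ q : ℕ, q.Prime → orderOf x = q → q = 19 := by
    intro x hx q hq hxq
    by_contra hq19
    haveI : Fact q.Prime := ⟨hq⟩
    have hxv : Commute x (v : G) := (Subgroup.mem_centralizer_iff.1 hx v v.2).symm
    have hxN : x ∈ N := Small.centralizer_le_normalizer _ hx
    by_cases hz : ∃ z : G ⧸ N, z ≠ o ∧ x • z = z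
    · obtain ⟨z, hzo, hxz⟩ := hz
      have horb : ∀ i : Fin 19, x • ((v : G) ^ (i : ℕ) • z) = (v : G) ^ (i : ℕ) • z := by
        intro i
        rw [← mul_smul, (hxv.pow_right _).eq, mul_smul, hxz]
      have hinjO : Function.Injective fun i : Option (Fin 19) =>
          (i.elim o fun i => (v : G) ^ (i : ℕ) • z : G ⧸ N) := by
        have hne : ∀ i : Fin 19, (v : G) ^ (i : ℕ) • z ≠ o := by
          intro i e
          refine hzo (MulAction.injective ((v : G) ^ (i : ℕ)) ?_)
          simp only
          rw [e, hmemo _ (pow_mem (Subgroup.le_normalizer v.2) _)]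
        have hper : MulAction.period (v : G) z = 19 := by
          have h1 : MulAction.period (v : G) z ∣ 19 := (MulAction.period_dvd_orderOf _ _).trans (dvd_of_eq hvo)
          rcases (Nat.dvd_prime (by norm_num)).1 h1 with h | h
          · refine absurd (huniq z ?_) hzo
            have := MulAction.pow_period_smul (v : G) z
            rwa [h, pow_one] at this
          · exact h
        rintro (_ | i) (_ | j) e
        · rfl
        · exact absurd e.symm (hne j)
        · exact absurd e (hne i)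
        · refine congrArg some (Fin.ext ?_)
          have e' : (v : G) ^ (i : ℕ) • z = (v : G) ^ (j : ℕ) • z := e
          rcases le_total (i : ℕ) j with hle | hle
          · have h2 : (v : G) ^ ((j : ℕ) - i) • z = z := by
              apply MulAction.injective ((v : G) ^ (i : ℕ))
              simp only
              rw [← mul_smul, ← pow_add, Nat.add_sub_cancel' hle, ← e']
            rw [MulAction.pow_smul_eq_iff_period_dvd, hper] at h2
            have := i.isLt; have := j.isLt; omega
          · have h2 : (v : G) ^ ((i : ℕ) - j) • z = z := by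
              apply MulAction.injective ((v : G) ^ (j : ℕ))
              simp only
              rw [← mul_smul, ← pow_add, Nat.add_sub_cancel' hle, e']
            rw [MulAction.pow_smul_eq_iff_period_dvd, hper] at h2
            have := i.isLt; have := j.isLt; omega
      have hsurj := (Nat.bijective_iff_injective_and_card _).2 ⟨hinjO, by rw [Nat.card_eq_fintype_card, hidx]; rfl⟩
      have hall : MulAction.toPermHom G (G ⧸ N) x = 1 := by
        ext w
        obtain ⟨i, rfl⟩ := hsurj.2 w
        rcases i with _ | i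
        · exact hmemo x hxN
        · exact horb i
      have := hinj (hall.trans (map_one _).symm)
      rw [this, orderOf_one] at hxq
      exact hq.ne_one hxq.symm
    · push Not at hz
      have hpg : IsPGroup q (Subgroup.zpowers x) :=
        IsPGroup.of_card (n := 1) (by rw [Nat.card_zpowers, hxq, pow_one])
      have hm := hpg.card_modEq_card_fixedPoints (G ⧸ N)
      have hfp : Nat.card (MulAction.fixedPoints (Subgroup.zpowers x) (G ⧸ N)) = 1 := by
        rw [Nat.card_eq_one_iff_unique]
        refine ⟨⟨fun a b => ?_⟩, ⟨⟨o, fun g => hmemo _ (Subgroup.zpowers_le.2 hxN g.2)⟩⟩⟩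
        have h : ∀ a : MulAction.fixedPoints (Subgroup.zpowers x) (G ⧸ N), a.1 = o := by
          intro a
          by_contra ha
          exact hz a.1 ha (a.2 ⟨x, Subgroup.mem_zpowers x⟩)
        exact Subtype.ext ((h a).trans (h b).symm)
      rw [hfp, hidx] at hm
      have : q ∣ 20 - 1 := (Nat.modEq_iff_dvd' (by norm_num)).1 hm.symm
      exact hq19 ((Nat.dvd_prime (by norm_num)).1 this |>.resolve_left hq.ne_one)
  have hCcard : Nat.card C = 19 := by
    obtain ⟨k, hk⟩ := IsPGroup.iff_card.1 (show IsPGroup 19 C from by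
      refine IsPGroup.iff_card.2 ⟨_, (Nat.eq_prime_pow_of_unique_prime_dvd Nat.card_pos.ne' ?_)⟩
      intro q hq hqd
      haveI : Fact q.Prime := ⟨hq⟩
      obtain ⟨x, hx⟩ := exists_prime_orderOf_dvd_card' q hqd
      exact hC19 x x.2 q hq (by rw [Subgroup.orderOf_coe, hx]))
    rcases k with _ | _ | k
    · have := Subgroup.card_le_of_le (Small.le_centralizer_self (P : Subgroup G) hP)
      rw [← hCdef, hk, hP] at this; simp at this
    · rw [hk, pow_one]
    · refine absurd ((dvd_trans ?_ (Subgroup.card_subgroup_dvd_card C))) hd2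
      rw [hk, pow_succ, pow_succ, mul_assoc]; exact dvd_mul_left _ _
  refine ⟨hCcard, fun h2 => ?_⟩
  haveI : Fact (Nat.Prime 2) := ⟨Nat.prime_two⟩
  obtain ⟨y, hy⟩ := exists_prime_orderOf_dvd_card' 2 h2
  have hyo : orderOf (y : G) = 2 := by rw [Subgroup.orderOf_coe, hy]
  have hyC : (y : G) ∉ C := fun h => by
    have := hC19 y h 2 Nat.prime_two hyo
    omega
  obtain ⟨hf1, hf2⟩ := Small.fixed_le P hP y.2 hyC
  have h4 := Small.four_dvd_moved hG hNtop hyo
  rw [Subgroup.index, hidx] at h4
  rw [h20] at hf2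
  change 1 ≤ Nat.card (MulAction.fixedBy (G ⧸ N) (y : G)) at hf1
  change Nat.card (MulAction.fixedBy (G ⧸ N) (y : G)) * 19 ≤ _ at hf2
  omega

end Cfsg.Agent.J1Order
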