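import Mathlib.Data.Nat.Prime.Basic
import Mathlib.Data.List.Sublists
import Mathlib.Algebra.BigOperators.Group.List.Basic

/-!
Arithmetic used to exclude simple groups of the proper divisor orders of 175560.
-/

set_option autoImplicit false

namespace Cfsg.Agent.J1Order

/-- The divisors of 175560. -/
def divs : List ℕ :=
  [3, 5, 7, 11, 19].foldr (fun p l => l ++ l.map (p * ·)) [1, 2, 4, 8]

/-- Prime, Sylow number, order of the centralizer of a Sylow subgroup. -/
abbrev Datum := ℕ × ℕ × ℕ

/-- The admissible triples at the prime `p`. -/
def opts (m p : ℕ) : List Datum :=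
  (divs.filter fun n => decide (1 < n) && decide (n % p = 1) && decide (m % (n * p) = 0)).flatMap fun n =>
    ((List.range p).filter fun d => decide (1 < d) && decide ((p - 1) % d = 0) &&
        decide (m / (n * p) % d = 0) &&
        (!(decide (p = 19) && decide (n = 20)) || (decide (m / n / d = 19) && decide (d % 2 = 1)))).map
      fun d => (p, n, m / n / d)

/-- Commuting of two primes is a symmetric relation. -/
def sym (a b : Datum) : Bool :=
  decide (a.2.2 % b.1 = 0) == decide (b.2.2 % a.1 = 0)

/-- All symmetric selections. -/
def build (m : ℕ) : List ℕ → List (List Datum)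
  | [] => [[]]
  | p :: ps => (build m ps).flatMap fun l => ((opts m p).filter fun a => l.all (sym a)).map (· :: l)

/-- Only one divisor of `t` is one modulo `q`. -/
def uniq (q t : ℕ) : Bool :=
  divs.all fun k => !decide (k % q = 1) || !decide (t % k = 0) || decide (k = 1)

/-- A group whose order divides `q * t`, containing the primes in `l`. -/
def closed (s : ℕ) (l : List Datum) : Bool :=
  l.all fun q => l.all fun r =>
    decide (q.1 = r.1) || decide ((q.1 - 1) % r.1 = 0) || decide (q.2.2 % r.1 = 0) || !uniq q.1 (s / q.1)

/-- The rule for centralizers of elements of odd prime order. -/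
def ruleE (l : List Datum) : Bool :=
  l.all fun a => closed (a.2.2 / a.1) (l.filter fun b => !decide (b.1 = a.1) && decide (a.2.2 % b.1 = 0))

/-- The rule for centralizers of involutions. -/
def ruleF (m : ℕ) (l : List Datum) : Bool :=
  closed (m / ((l.filter fun a => !decide (a.2.2 % 2 = 0)).map (·.1)).prod)
    (l.filter fun a => decide (a.2.2 % 2 = 0))

/-- The counting rule. -/
def ruleC (m : ℕ) (l : List Datum) : Bool :=
  l.sublists.all fun S =>
    (S.any fun a => S.any fun b => !decide (a.1 = b.1) && decide (a.2.2 % b.1 = 0)) ||
      decide ((S.map fun a => a.2.1 * (a.1 - 1) * (a.2.2 / a.1)).sum < m)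

/-- Does a selection pass all rules. -/
def survives (m : ℕ) (l : List Datum) : Bool :=
  ruleC m l && ruleE l && ruleF m l

/-- The odd primes of an order. -/
def oddPrimes (m : ℕ) : List ℕ :=
  [19, 11, 7, 5, 3].filter fun p => decide (m % p = 0)

set_option maxRecDepth 100000 in
set_option maxHeartbeats 4000000 in
theorem no_data : (divs.filter fun m => decide (m % 19 = 0) && !decide (m = 19) && !decide (m = 175560) &&
    !((build m (oddPrimes m)).all fun l => !survives m l)) = [] := by
  decide +kernel

end Cfsg.Agent.J1Order
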