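import Cfsg.Agent.Lib.Small.SylowToolkit
import Mathlib.Data.Nat.Squarefree

/-!
Centralizers of Sylow subgroups of prime order.
-/

set_option autoImplicit false

namespace Cfsg.Agent.J1Order

variable {G : Type*} [Group G] [Finite G]

/-- The centralizer of a subgroup of prime order. -/
abbrev cent (P : Subgroup G) : Subgroup G := Subgroup.centralizer (P : Set G)

theorem zpowers_eq_of_mem {p : ℕ} (hp : p.Prime) {H : Subgroup G} (hH : Nat.card H = p) {x : G}
    (hx : x ∈ H) (hx1 : x ≠ 1) : Subgroup.zpowers x = H := by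
  refine Subgroup.eq_of_le_of_card_ge (Subgroup.zpowers_le.2 hx) ?_
  rcases hp.eq_one_or_self_of_dvd _ (hH ▸ Subgroup.orderOf_dvd_natCard H hx) with h | h
  · exact absurd (orderOf_eq_one_iff.1 h) hx1
  · rw [hH, Nat.card_zpowers, h]

theorem card_sylow_prime {p : ℕ} [hp : Fact p.Prime] (hd : p ∣ Nat.card G) (hd2 : ¬ p * p ∣ Nat.card G)
    (P : Sylow p G) : Nat.card (P : Subgroup G) = p := by
  obtain ⟨m, hm⟩ := hd
  have := Small.sylow_card (G := G) (k := 1) (m := m) (by rw [pow_one]; exact hm)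
    (fun h => hd2 (hm ▸ Nat.mul_dvd_mul_left p h)) P
  rwa [pow_one] at this

theorem sylow_eq_zpowers {p : ℕ} [hp : Fact p.Prime] (h : ∀ P : Sylow p G, Nat.card (P : Subgroup G) = p)
    {x : G} (hx : orderOf x = p) : ∃ P : Sylow p G, (P : Subgroup G) = Subgroup.zpowers x := by
  obtain ⟨P, hP⟩ := (IsPGroup.of_card (n := 1)
    (by rw [Nat.card_zpowers, hx, pow_one]) : IsPGroup p (Subgroup.zpowers x)).exists_le_sylow
  exact ⟨P, (Subgroup.eq_of_le_of_card_ge hP (by rw [h P, Nat.card_zpowers, hx])).symm⟩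

theorem card_cent_eq {p : ℕ} [hp : Fact p.Prime] (P Q : Sylow p G) :
    Nat.card (cent (P : Subgroup G)) = Nat.card (cent (Q : Subgroup G)) := by
  obtain ⟨g, rfl⟩ := MulAction.exists_smul_eq G P Q
  rw [Nat.card_congr ((cent (P : Subgroup G)).equivMapOfInjective (MulAut.conj g).toMonoidHom
    (MulAut.conj g).injective).toEquiv]
  refine congrArg (fun K : Subgroup G => Nat.card K) ?_
  ext x
  rw [Subgroup.mem_map_equiv]
  rw [MulAut.conj_symm_apply]
  rw [Subgroup.mem_centralizer_iff, Subgroup.mem_centralizer_iff]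
  simp only [SetLike.mem_coe, Sylow.smul_def, Sylow.pointwise_smul_def,
    Subgroup.mem_pointwise_smul_iff_inv_smul_mem, MulAut.smul_def, ← map_inv, MulAut.conj_apply,
    inv_inv]
  constructor
  · intro h w hw
    have h2 := congrArg (fun t => g * t * g⁻¹) (h _ hw)
    simpa [mul_assoc] using h2
  · intro h w hw
    have h2 := congrArg (fun t => g⁻¹ * t * g) (h (g * w * g⁻¹) (by simpa [mul_assoc] using hw))
    simpa [mul_assoc] using h2

theorem mem_cent_zpowers {x y : G} : y ∈ cent (Subgroup.zpowers x) ↔ y * x = x * y := by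
  constructor
  · exact fun h => (Subgroup.mem_centralizer_iff.1 h x (Subgroup.mem_zpowers x)).symm
  · intro h
    refine Subgroup.mem_centralizer_iff.2 ?_
    rintro _ ⟨j, rfl⟩
    exact ((Commute.symm h : Commute x y).zpow_left j).eq

theorem dvd_card_cent_of_commute {p q : ℕ} [hp : Fact p.Prime] (h : ∀ P : Sylow p G, Nat.card (P : Subgroup G) = p)
    {x y : G} (hx : orderOf x = p) (hy : orderOf y = q) (hxy : y * x = x * y) (P : Sylow p G) :
    q ∣ Nat.card (cent (P : Subgroup G)) := by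
  obtain ⟨R, hR⟩ := sylow_eq_zpowers h hx
  rw [card_cent_eq P R, hR, ← hy]
  exact Subgroup.orderOf_dvd_natCard _ (mem_cent_zpowers.2 hxy)

theorem exists_commute_of_dvd_card_cent {p q : ℕ} [hp : Fact p.Prime] (hq : q.Prime) (P : Sylow p G)
    (hP : Nat.card (P : Subgroup G) = p) (h : q ∣ Nat.card (cent (P : Subgroup G))) :
    ∃ x y : G, orderOf x = p ∧ orderOf y = q ∧ y * x = x * y := by
  haveI : Fact q.Prime := ⟨hq⟩
  obtain ⟨x, hx⟩ := exists_prime_orderOf_dvd_card' (G := (P : Subgroup G)) p (dvd_of_eq hP.symm)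
  obtain ⟨y, hy⟩ := exists_prime_orderOf_dvd_card' q h
  exact ⟨x, y, by rw [Subgroup.orderOf_coe, hx], by rw [Subgroup.orderOf_coe, hy],
    (Subgroup.mem_centralizer_iff.1 y.2 x x.2).symm⟩

theorem dvd_cent_symm {p q : ℕ} [hp : Fact p.Prime] [hq : Fact q.Prime]
    (hQ : ∀ Q : Sylow q G, Nat.card (Q : Subgroup G) = q) (P : Sylow p G) (Q : Sylow q G)
    (hP : Nat.card (P : Subgroup G) = p) (h : q ∣ Nat.card (cent (P : Subgroup G))) :
    p ∣ Nat.card (cent (Q : Subgroup G)) := by
  obtain ⟨x, y, hx, hy, hxy⟩ := exists_commute_of_dvd_card_cent hq.out P hP h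
  exact dvd_card_cent_of_commute hQ hy hx hxy.symm Q

/-- A prime dividing the normalizer commutes, unless it divides `q - 1`. -/
theorem dvd_cent_of_dvd_normalizer {q r : ℕ} [hq : Fact q.Prime] (hr : r.Prime) (Q : Subgroup G)
    (hQ : Nat.card Q = q) (h : r ∣ Nat.card (Subgroup.normalizer (Q : Set G))) (hrq : ¬ r ∣ q - 1) :
    r ∣ Nat.card (cent Q) :=
  (hr.dvd_mul.1 (h.trans (Small.card_normalizer_dvd Q hQ))).resolve_right hrq

/-- In a subgroup with one Sylow `q`-subgroup every prime not dividing `q - 1` commutes with `q`. -/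
theorem dvd_cent_of_unique {q r : ℕ} [hq : Fact q.Prime] (hr : r.Prime)
    (hQ : ∀ Q : Sylow q G, Nat.card (Q : Subgroup G) = q) (H : Subgroup G) (hqH : q ∣ Nat.card H)
    (hrH : r ∣ Nat.card H) (h1 : Nat.card (Sylow q H) = 1) (hrq : ¬ r ∣ q - 1) (Q₀ : Sylow q G) :
    r ∣ Nat.card (cent (Q₀ : Subgroup G)) := by
  haveI : Fact r.Prime := ⟨hr⟩
  obtain ⟨x, hx⟩ := exists_prime_orderOf_dvd_card' (G := H) q hqH
  obtain ⟨y, hy⟩ := exists_prime_orderOf_dvd_card' (G := H) r hrH
  obtain ⟨R, hR⟩ := sylow_eq_zpowers hQ (x := (x : G)) (by rw [Subgroup.orderOf_coe, hx])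
  rw [card_cent_eq Q₀ R]
  refine dvd_cent_of_dvd_normalizer hr (R : Subgroup G) (hQ R) ?_ hrq
  haveI : Subsingleton (Sylow q H) := (Nat.card_eq_one_iff_unique.1 h1).1
  obtain ⟨S, hS⟩ := (IsPGroup.of_card (n := 1)
    (by rw [Nat.card_zpowers, hx, pow_one]) : IsPGroup q (Subgroup.zpowers x)).exists_le_sylow
  haveI := S.normal_of_subsingleton
  have hcard : Nat.card (S : Subgroup H) ≤ q := by
    obtain ⟨T, hT⟩ := ((S.isPGroup'.map H.subtype).exists_le_sylow : ∃ T : Sylow q G, _)
    refine le_trans ?_ (hQ T).le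
    rw [Nat.card_congr ((S : Subgroup H).equivMapOfInjective H.subtype H.subtype_injective).toEquiv]
    exact Subgroup.card_le_of_le hT
  have hSx : (S : Subgroup H) = Subgroup.zpowers x :=
    (Subgroup.eq_of_le_of_card_ge hS (by rw [Nat.card_zpowers, hx]; exact hcard)).symm
  have hmap : (R : Subgroup G) = (S : Subgroup H).map H.subtype := by
    rw [hR, hSx, MonoidHom.map_zpowers]; rfl
  have : (y : G) ∈ Subgroup.normalizer ((R : Subgroup G) : Set G) := by
    rw [hmap, Subgroup.mem_normalizer_iff]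
    intro w
    constructor
    · rintro ⟨v, hv, rfl⟩
      exact ⟨y * v * y⁻¹, Subgroup.Normal.conj_mem inferInstance v hv y, rfl⟩
    · rintro ⟨v, hv, e⟩
      refine ⟨y⁻¹ * v * y, ?_, ?_⟩
      · have := Subgroup.Normal.conj_mem (inferInstance : (S : Subgroup H).Normal) v hv y⁻¹
        rwa [inv_inv] at this
      have e' : (v : G) = y * w * (y : G)⁻¹ := e
      show (y : G)⁻¹ * v * y = w
      rw [e']; group
  rw [← show orderOf (y : G) = r by rw [Subgroup.orderOf_coe, hy]]
  exact Subgroup.orderOf_dvd_natCard _ this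

/-- The number of Sylow `q`-subgroups of the centralizer of a Sylow `p`-subgroup. -/
theorem card_sylow_cent_mul_dvd {p q : ℕ} [hp : Fact p.Prime] [hq : Fact q.Prime] (hpq : p ≠ q)
    (P : Subgroup G) (hP : Nat.card P = p) (hqC : q ∣ Nat.card (cent P)) :
    Nat.card (Sylow q (cent P)) * (p * q) ∣ Nat.card (cent P) := by
  obtain ⟨Q⟩ : Nonempty (Sylow q (cent P)) := inferInstance
  rw [← Small.card_normalizer_mul Q, mul_comm]
  refine Nat.mul_dvd_mul_right ?_ _
  refine ((Nat.coprime_primes hp.out hq.out).2 hpq).mul_dvd_of_dvd_of_dvd ?_ ?_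
  · rw [← hP, ← Nat.card_congr (Subgroup.subgroupOfEquivOfLe (Small.le_centralizer_self P hP)).toEquiv]
    refine Subgroup.card_dvd_of_le fun w hw => ?_
    rw [Subgroup.mem_normalizer_iff]
    intro v
    have e : w * v * w⁻¹ = v := by
      refine Subtype.ext ?_
      show (w : G) * v * (w : G)⁻¹ = v
      rw [mul_inv_eq_iff_eq_mul]
      exact Subgroup.mem_centralizer_iff.1 v.2 w hw
    rw [e]
  · exact (Q.dvd_card_of_dvd_card hqC).trans (Subgroup.card_dvd_of_le Subgroup.le_normalizer)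

/-- The set of elements of order a multiple of `p`. -/
def multSet (G : Type*) [Group G] (p : ℕ) : Set G := {g | p ∣ orderOf g}

theorem card_multSet_ge {p c : ℕ} [hp : Fact p.Prime] (h : ∀ P : Sylow p G, Nat.card (P : Subgroup G) = p)
    (hc : ∀ P : Sylow p G, Nat.card (cent (P : Subgroup G)) = p * c) (hpc : ¬ p ∣ c) :
    Nat.card (Sylow p G) * ((p - 1) * c) ≤ (multSet G p).ncard := by
  classical
  letI := Fintype.ofFinite (Sylow p G)
  have hfib : ∀ P : Sylow p G, (p - 1) * c ≤ Nat.card {g : cent (P : Subgroup G) // g ^ c ≠ 1} := by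
    intro P
    letI := Fintype.ofFinite (cent (P : Subgroup G))
    set K := {g : cent (P : Subgroup G) // g ^ c = 1}
    have hinj : Function.Injective fun v : ↥(P : Subgroup G) × K =>
        (⟨v.1, Small.le_centralizer_self _ (h P) v.1.2⟩ : cent (P : Subgroup G)) * v.2.1 := by
      rintro ⟨x, k⟩ ⟨x', k'⟩ e
      have key : ∀ (x : ↥(P : Subgroup G)) (k : K), ((x : G) * (k.1 : G)) ^ c = (x : G) ^ c := by
        intro x k
        have hxk : Commute (x : G) (k.1 : G) := Subgroup.mem_centralizer_iff.1 k.1.2 x x.2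
        rw [hxk.mul_pow]
        have : ((k.1 : G)) ^ c = 1 := congrArg Subtype.val k.2
        rw [this, mul_one]
      have e' : (x : G) * (k.1 : G) = (x' : G) * (k'.1 : G) := congrArg Subtype.val e
      have hx : x = x' := by
        have := (key x k).symm.trans ((congrArg (· ^ c) e').trans (key x' k'))
        have hx' : x ^ c = x' ^ c := Subtype.ext this
        exact (powCoprime (G := (P : Subgroup G)) (n := c)
          (by rw [h P]; exact (hp.out.coprime_iff_not_dvd).2 hpc)).injective hx'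
      subst hx
      exact Prod.ext rfl (Subtype.ext (Subtype.ext (mul_left_cancel e')))
    have h1 := Nat.card_le_card_of_injective _ hinj
    rw [Nat.card_prod, h P, hc P] at h1
    have h2 := Nat.le_of_mul_le_mul_left h1 hp.out.pos
    have h3 : Nat.card {g : cent (P : Subgroup G) // g ^ c ≠ 1} + Nat.card K =
        Nat.card (cent (P : Subgroup G)) := by
      rw [← Nat.card_sum]
      exact Nat.card_congr ((Equiv.sumComm _ _).trans (Equiv.sumCompl fun g => g ^ c = 1))
    rw [hc P] at h3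
    rw [Nat.sub_mul, one_mul]
    omega
  have hmem : ∀ (P : Sylow p G) (g : {g : cent (P : Subgroup G) // g ^ c ≠ 1}), (g.1 : G) ∈ multSet G p := by
    intro P g
    by_contra hn
    refine g.2 (Subtype.ext ?_)
    show (g.1 : G) ^ c = 1
    rw [← orderOf_dvd_iff_pow_eq_one]
    have hd := Subgroup.orderOf_dvd_natCard _ g.1.2
    rw [hc P] at hd
    exact ((hp.out.coprime_iff_not_dvd).2 hn).symm.dvd_of_dvd_mul_left hd
  have hdet : ∀ (P : Sylow p G) (g : {g : cent (P : Subgroup G) // g ^ c ≠ 1}),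
      Subgroup.zpowers ((g.1 : G) ^ c) = (P : Subgroup G) := by
    intro P g
    have hne : (g.1 : G) ^ c ≠ 1 := fun e => g.2 (Subtype.ext e)
    have hxp : ((g.1 : G) ^ c) ^ p = 1 := by
      rw [← pow_mul, mul_comm, ← hc P, ← orderOf_dvd_iff_pow_eq_one]
      exact Subgroup.orderOf_dvd_natCard _ g.1.2
    have ho : orderOf ((g.1 : G) ^ c) = p := orderOf_eq_prime hxp hne
    have hle : Subgroup.zpowers ((g.1 : G) ^ c) ≤ Subgroup.normalizer ((P : Subgroup G) : Set G) :=
      Subgroup.zpowers_le.2 (Small.centralizer_le_normalizer _ (pow_mem g.1.2 c))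
    have hz : IsPGroup p (Subgroup.zpowers ((g.1 : G) ^ c)) :=
      IsPGroup.of_card (n := 1) (by rw [Nat.card_zpowers, ho, pow_one])
    exact Subgroup.eq_of_le_of_card_ge
      ((le_inf le_rfl hle).trans ((hz.inf_normalizer_sylow P).le.trans inf_le_right))
      (by rw [h P, Nat.card_zpowers, ho])
  have hinj2 : Function.Injective fun v : (Σ P : Sylow p G, {g : cent (P : Subgroup G) // g ^ c ≠ 1}) =>
      (⟨(v.2.1 : G), hmem v.1 v.2⟩ : multSet G p) := by
    rintro ⟨P, g⟩ ⟨Q, g'⟩ e
    have e' : (g.1 : G) = (g'.1 : G) := congrArg Subtype.val e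
    obtain rfl : P = Q := Sylow.ext (by rw [← hdet P g, ← hdet Q g', e'])
    obtain rfl : g = g' := Subtype.ext (Subtype.ext e')
    rfl
  have h4 := Nat.card_le_card_of_injective _ hinj2
  rw [Nat.card_sigma, Nat.card_coe_set_eq] at h4
  refine le_trans ?_ h4
  rw [Nat.card_eq_fintype_card, ← Finset.card_univ, ← smul_eq_mul, ← Finset.sum_const]
  exact Finset.sum_le_sum fun P _ => hfib P

theorem disjoint_multSet {p q : ℕ} [hp : Fact p.Prime] [hq : Fact q.Prime]
    (h : ∀ P : Sylow p G, Nat.card (P : Subgroup G) = p) (P : Sylow p G)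
    (hn : ¬ q ∣ Nat.card (cent (P : Subgroup G))) : Disjoint (multSet G p) (multSet G q) := by
  rw [Set.disjoint_left]
  intro g hgp hgq
  have h0 : orderOf g ≠ 0 := (orderOf_pos g).ne'
  refine hn (dvd_card_cent_of_commute h (x := g ^ (orderOf g / p)) (y := g ^ (orderOf g / q)) ?_ ?_
    (Commute.pow_pow (Commute.refl g) _ _).eq P)
  · exact orderOf_pow_orderOf_div h0 hgp
  · exact orderOf_pow_orderOf_div h0 hgq

end Cfsg.Agent.J1Order
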