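import Cfsg.Agent.Lib.FGStruct.J1Order.Check
import Cfsg.Agent.Lib.FGStruct.J1Order.Local
import Cfsg.Agent.Lib.FGStruct.J1Order.Invol

/-!
No nonabelian simple group of a proper divisor order of 175560 with order divisible by 19.
-/

set_option autoImplicit false

namespace Cfsg.Agent.J1Order

variable {G : Type*} [Group G] [Finite G]

theorem dvd_foldr : ∀ (ps : List ℕ) (base : List ℕ) (B : ℕ), (∀ k, k ∣ B → k ∈ base) →
    (∀ p ∈ ps, p.Prime) → ∀ k, k ∣ ps.prod * B → k ∈ ps.foldr (fun p l => l ++ l.map (p * ·)) base := by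
  intro ps
  induction ps with
  | nil => intro base B hB _ k hk; simpa using hB k (by simpa using hk)
  | cons p ps ih =>
    intro base B hB hps k hk
    rw [List.prod_cons, mul_assoc] at hk
    obtain ⟨a, b, ha, hb, rfl⟩ := Nat.dvd_mul.1 hk
    have hb' := ih base B hB (fun q hq => hps q (List.mem_cons_of_mem _ hq)) b hb
    rw [List.foldr_cons, List.mem_append, List.mem_map]
    rcases (Nat.dvd_prime (hps p List.mem_cons_self)).1 ha with rfl | rfl
    · left; rwa [one_mul]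
    · right; exact ⟨b, hb', rfl⟩

theorem mem_divs {k : ℕ} (hk : k ∣ 175560) : k ∈ divs := by
  refine dvd_foldr [3, 5, 7, 11, 19] [1, 2, 4, 8] 8 (fun k hk => ?_) (by decide +kernel) k ?_
  · obtain ⟨i, hi, rfl⟩ := (Nat.dvd_prime_pow Nat.prime_two).1 (show k ∣ 2 ^ 3 from hk)
    interval_cases i <;> decide
  · norm_num at hk ⊢; exact hk

theorem mem_primes {p : ℕ} (hp : p ∈ [19, 11, 7, 5, 3]) :
    p.Prime ∧ ¬ p * p ∣ 175560 ∧ p ≠ 2 := by
  simp only [List.mem_cons, List.not_mem_nil, or_false] at hp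
  rcases hp with rfl | rfl | rfl | rfl | rfl <;> norm_num

variable [IsSimpleGroup G]

/-- The triple of a Sylow subgroup. -/
noncomputable def datum (p : ℕ) (P : Sylow p G) : Datum :=
  (p, Nat.card (Sylow p G), Nat.card (cent (P : Subgroup G)))

theorem datum_mem (hG : ¬ IsMulCommutative G) (hm : Nat.card G ∣ 175560) {p : ℕ} [hp : Fact p.Prime]
    (hpl : p ∈ [19, 11, 7, 5, 3]) (hd : p ∣ Nat.card G) (P : Sylow p G) :
    datum p P ∈ opts (Nat.card G) p := by
  have hd2 : ¬ p * p ∣ Nat.card G := fun h => (mem_primes hpl).2.1 (h.trans hm)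
  have hall := card_sylow_prime hd hd2
  have hP := hall P
  set n := Nat.card (Sylow p G) with hn
  set c := Nat.card (cent (P : Subgroup G)) with hc
  have hNn := Small.card_normalizer_mul P
  have hn0 : 0 < n := Nat.card_pos
  have hn1 : n ≠ 1 := Small.sylow_number_ne_one hG hd
  have hnp : n % p = 1 := by
    rw [hn, card_sylow_modEq_one p G, Nat.mod_eq_of_lt hp.out.one_lt]
  have hNdvd : Nat.card (Subgroup.normalizer ((P : Subgroup G) : Set G)) ∣ c * (p - 1) :=
    Small.card_normalizer_dvd (P : Subgroup G) hP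
  have hCN : c ∣ Nat.card (Subgroup.normalizer ((P : Subgroup G) : Set G)) :=
    Subgroup.card_dvd_of_le (Small.centralizer_le_normalizer _)
  have hPC : p ∣ c :=
    (dvd_of_eq hP.symm).trans (Subgroup.card_dvd_of_le (Small.le_centralizer_self _ hP))
  have hc0 : 0 < c := Nat.card_pos
  obtain ⟨d, hd'⟩ := hCN
  obtain ⟨c', hc'⟩ := hPC
  have hd1 : d ∣ p - 1 := by rw [hd'] at hNdvd; exact Nat.dvd_of_mul_dvd_mul_left hc0 hNdvd
  have hdne : d ≠ 1 := by
    rintro rfl
    rw [mul_one] at hd'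
    exact Small.centralizer_ne_normalizer (p := p) (fun h => hG (by
      haveI : Fact (Nat.card G).Prime := ⟨h⟩
      haveI := isCyclic_of_prime_card (α := G) rfl
      infer_instance)) hd P hd'.symm
  have hd0 : d ≠ 0 := by rintro rfl; rw [mul_zero] at hd'; exact Nat.card_pos.ne' hd'
  have hdp : d < p := by
    have := Nat.le_of_dvd (by have := hp.out.two_le; omega) hd1
    have := hp.out.two_le; omega
  have hm' : Nat.card G = n * p * (c' * d) := by rw [← hNn, hd', hc', ← hn]; ring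
  have hdiv1 : Nat.card G / (n * p) = c' * d := by
    rw [hm', Nat.mul_div_cancel_left _ (Nat.mul_pos hn0 hp.out.pos)]
  have hdiv2 : Nat.card G / n / d = c := by
    rw [show Nat.card G = n * (c * d) by rw [← hNn, hd', ← hn]; ring,
      Nat.mul_div_cancel_left _ hn0, Nat.mul_div_cancel _ (Nat.pos_of_ne_zero hd0)]
  rw [opts, List.mem_flatMap]
  refine ⟨n, List.mem_filter.2 ⟨mem_divs ((Dvd.intro_left _ hNn).trans hm), ?_⟩,
    List.mem_map.2 ⟨d, List.mem_filter.2 ⟨List.mem_range.2 hdp, ?_⟩, ?_⟩⟩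
  · simp only [Bool.and_eq_true, decide_eq_true_eq]
    exact ⟨⟨by omega, hnp⟩, Nat.mod_eq_zero_of_dvd ⟨c' * d, hm'⟩ |> id⟩
  · simp only [Bool.and_eq_true, Bool.or_eq_true, decide_eq_true_eq, Bool.not_eq_true',
      Bool.and_eq_false_iff, decide_eq_false_iff_not, hdiv1, hdiv2]
    refine ⟨⟨⟨by omega, Nat.mod_eq_zero_of_dvd hd1⟩, Nat.mul_mod_left _ _⟩, ?_⟩
    by_cases h19 : p = 19
    · by_cases h20 : n = 20
      · subst h19
        obtain ⟨h1, h2⟩ := degree_twenty hG P hP h20 hd2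
        exact Or.inr ⟨h1, (Nat.two_dvd_ne_zero).1 fun h => h2 (hd' ▸ h.mul_left c)⟩
      · exact Or.inl (Or.inr h20)
    · exact Or.inl (Or.inl h19)
  · rw [hdiv2]; rfl

theorem uniq_sound {q t k : ℕ} (h : uniq q t = true) (hk : k ∣ 175560) (hk1 : k % q = 1) (hkt : k ∣ t) :
    k = 1 := by
  have := List.all_eq_true.1 h k (mem_divs hk)
  simp only [Bool.or_eq_true, Bool.not_eq_true', decide_eq_false_iff_not, decide_eq_true_eq] at this
  rcases this with (h1 | h1) | h1
  · exact absurd hk1 h1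
  · exact absurd (Nat.mod_eq_zero_of_dvd hkt) h1
  · exact h1

theorem mem_build (hG : ¬ IsMulCommutative G) (hm : Nat.card G ∣ 175560) (S : ∀ p, Sylow p G) :
    ∀ ps : List ℕ, (∀ p ∈ ps, p ∈ [19, 11, 7, 5, 3] ∧ p ∣ Nat.card G) → ps.Nodup →
      ps.map (fun p => datum p (S p)) ∈ build (Nat.card G) ps := by
  intro ps
  induction ps with
  | nil => intro _ _; simp [build]
  | cons p ps ih =>
    intro hps hnd
    rw [List.nodup_cons] at hnd
    obtain ⟨hpl, hpd⟩ := hps p List.mem_cons_self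
    haveI : Fact p.Prime := ⟨(mem_primes hpl).1⟩
    rw [build, List.mem_flatMap]
    refine ⟨_, ih (fun q hq => hps q (List.mem_cons_of_mem _ hq)) hnd.2, List.mem_map.2
      ⟨datum p (S p), List.mem_filter.2 ⟨datum_mem hG hm hpl hpd (S p), ?_⟩, rfl⟩⟩
    rw [List.all_eq_true]
    intro b hb
    obtain ⟨q, hq, rfl⟩ := List.mem_map.1 hb
    obtain ⟨hql, hqd⟩ := hps q (List.mem_cons_of_mem _ hq)
    haveI : Fact q.Prime := ⟨(mem_primes hql).1⟩
    have hP := card_sylow_prime hpd (fun h => (mem_primes hpl).2.1 (h.trans hm))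
    have hQ := card_sylow_prime hqd (fun h => (mem_primes hql).2.1 (h.trans hm))
    have hiff : q ∣ Nat.card (cent (S p : Subgroup G)) ↔ p ∣ Nat.card (cent (S q : Subgroup G)) :=
      ⟨dvd_cent_symm hQ _ _ (hP _), dvd_cent_symm hP _ _ (hQ _)⟩
    simp only [sym, datum, beq_iff_eq, decide_eq_decide, ← Nat.dvd_iff_mod_eq_zero]
    exact hiff

theorem ruleE_ok (hG : ¬ IsMulCommutative G) (hm : Nat.card G ∣ 175560) (S : ∀ p, Sylow p G) (ps : List ℕ)
    (hps : ∀ p ∈ ps, p ∈ [19, 11, 7, 5, 3] ∧ p ∣ Nat.card G) :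
    ruleE (ps.map fun p => datum p (S p)) = true := by
  rw [ruleE, List.all_eq_true]
  intro a ha
  obtain ⟨p, hp, rfl⟩ := List.mem_map.1 ha
  rw [closed, List.all_eq_true]
  intro b hb
  rw [List.all_eq_true]
  intro r hr
  obtain ⟨hb1, hb2⟩ := List.mem_filter.1 hb
  obtain ⟨hr1, hr2⟩ := List.mem_filter.1 hr
  obtain ⟨q, hq, rfl⟩ := List.mem_map.1 hb1
  obtain ⟨r, hr', rfl⟩ := List.mem_map.1 hr1
  simp only [datum, Bool.and_eq_true, Bool.not_eq_true', decide_eq_false_iff_not,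
    decide_eq_true_eq, ← Nat.dvd_iff_mod_eq_zero] at hb2 hr2 ⊢
  simp only [Bool.or_eq_true, decide_eq_true_eq, Bool.not_eq_true']
  by_contra hcon
  push Not at hcon
  obtain ⟨⟨⟨hqr, hrq⟩, hnc⟩, hu⟩ := hcon
  simp only [ne_eq, Bool.not_eq_false, decide_eq_true_eq] at hu hqr
  obtain ⟨hpl, hpd⟩ := hps p hp
  obtain ⟨hql, hqd⟩ := hps q hq
  obtain ⟨hrl, hrd⟩ := hps r hr'
  haveI : Fact p.Prime := ⟨(mem_primes hpl).1⟩
  haveI : Fact q.Prime := ⟨(mem_primes hql).1⟩
  have hP := card_sylow_prime hpd (fun h => (mem_primes hpl).2.1 (h.trans hm))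
  have hQ := card_sylow_prime hqd (fun h => (mem_primes hql).2.1 (h.trans hm))
  refine hnc (dvd_cent_of_unique (mem_primes hrl).1 hQ (cent (S p : Subgroup G)) hb2.2 hr2.2 ?_ hrq (S q))
  have h := card_sylow_cent_mul_dvd (fun e => of_decide_eq_false hb2.1 e.symm) (S p : Subgroup G) (hP _) hb2.2
  refine uniq_sound hu ((Dvd.intro _ rfl).trans (h.trans ((Subgroup.card_subgroup_dvd_card _).trans hm))) ?_ ?_
  · rw [card_sylow_modEq_one q, Nat.mod_eq_of_lt (mem_primes hql).1.one_lt]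
  · rw [Nat.div_div_eq_div_mul]
    exact Nat.dvd_div_of_mul_dvd (by rw [mul_comm]; exact h)

theorem prod_dvd_of_primes {M : ℕ} : ∀ l : List ℕ, l.Nodup → (∀ p ∈ l, p.Prime ∧ p ∣ M) → l.prod ∣ M := by
  intro l
  induction l with
  | nil => intro _ _; simp
  | cons p l ih =>
    intro hnd hl
    rw [List.nodup_cons] at hnd
    rw [List.prod_cons]
    refine Nat.Coprime.mul_dvd_of_dvd_of_dvd ?_ (hl p List.mem_cons_self).2
      (ih hnd.2 fun q hq => hl q (List.mem_cons_of_mem _ hq))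
    rw [(hl p List.mem_cons_self).1.coprime_iff_not_dvd]
    intro h
    obtain ⟨q, hq, hpq⟩ := (Prime.dvd_prod_iff (Nat.prime_iff.1 (hl p List.mem_cons_self).1)).1 h
    rw [(Nat.prime_dvd_prime_iff_eq (hl p List.mem_cons_self).1 (hl q (List.mem_cons_of_mem _ hq)).1).1 hpq] at hnd
    exact hnd.1 hq

theorem sylow_two_dvd (hm : Nat.card G ∣ 175560) (T : Sylow 2 G) :
    Nat.card (T : Subgroup G) ∣ 8 := by
  haveI : Fact (Nat.Prime 2) := ⟨Nat.prime_two⟩
  obtain ⟨k, hk⟩ := IsPGroup.iff_card.1 T.isPGroup'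
  have h : 2 ^ k ∣ 8 * 21945 := hk ▸ (Subgroup.card_subgroup_dvd_card _).trans hm
  rw [hk]
  exact (Nat.Coprime.pow_left k (by norm_num : Nat.Coprime 2 21945)).dvd_of_dvd_mul_right h

theorem ruleF_ok (hG : ¬ IsMulCommutative G) (hm : Nat.card G ∣ 175560) (S : ∀ p, Sylow p G) (ps : List ℕ)
    (hps : ∀ p ∈ ps, p ∈ [19, 11, 7, 5, 3] ∧ p ∣ Nat.card G) (hnd : ps.Nodup) :
    ruleF (Nat.card G) (ps.map fun p => datum p (S p)) = true := by
  haveI : Fact (Nat.Prime 2) := ⟨Nat.prime_two⟩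
  rw [ruleF, closed, List.all_eq_true]
  intro b hb
  rw [List.all_eq_true]
  intro r hr
  obtain ⟨hb1, hb2⟩ := List.mem_filter.1 hb
  obtain ⟨hr1, hr2⟩ := List.mem_filter.1 hr
  obtain ⟨q, hq, rfl⟩ := List.mem_map.1 hb1
  obtain ⟨r, hr', rfl⟩ := List.mem_map.1 hr1
  simp only [datum, decide_eq_true_eq, ← Nat.dvd_iff_mod_eq_zero] at hb2 hr2 ⊢
  simp only [Bool.or_eq_true, decide_eq_true_eq, Bool.not_eq_true']
  by_contra hcon
  push Not at hcon
  obtain ⟨⟨⟨hqr, hrq⟩, hnc⟩, hu⟩ := hcon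
  simp only [ne_eq, Bool.not_eq_false, decide_eq_true_eq] at hu hqr
  obtain ⟨hql, hqd⟩ := hps q hq
  obtain ⟨hrl, hrd⟩ := hps r hr'
  haveI : Fact q.Prime := ⟨(mem_primes hql).1⟩
  haveI : Fact r.Prime := ⟨(mem_primes hrl).1⟩
  have hall : ∀ p ∈ ps, ∀ P : Sylow p G, Nat.card (P : Subgroup G) = p := fun p hp P => by
    haveI : Fact p.Prime := ⟨(mem_primes (hps p hp).1).1⟩
    exact card_sylow_prime (hps p hp).2 (fun h => (mem_primes (hps p hp).1).2.1 (h.trans hm)) P
  obtain ⟨x, t, hx, ht, hxt⟩ := exists_commute_of_dvd_card_cent Nat.prime_two (S q) (hall q hq _) hb2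
  set C := Subgroup.centralizer ({t} : Set G)
  have hclass : ∀ p ∈ ps, 2 ∣ Nat.card (cent (S p : Subgroup G)) ↔ p ∣ Nat.card C := by
    intro p hp
    haveI : Fact p.Prime := ⟨(mem_primes (hps p hp).1).1⟩
    constructor
    · intro h
      obtain ⟨y, s, hy, hs, hys⟩ := exists_commute_of_dvd_card_cent Nat.prime_two (S p) (hall p hp _) h
      obtain ⟨g, hg⟩ := isConj_iff.1 (one_class hG (sylow_two_dvd hm) hs ht)
      have hmem : g * y * g⁻¹ ∈ C := by
        rw [Subgroup.mem_centralizer_singleton_iff, ← hg]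
        calc g * y * g⁻¹ * (g * s * g⁻¹) = g * (y * s) * g⁻¹ := by group
          _ = g * (s * y) * g⁻¹ := by rw [hys]
          _ = _ := by group
      rw [← hy, ← show orderOf (g * y * g⁻¹) = orderOf y from (MulAut.conj g).orderOf_eq y]
      exact Subgroup.orderOf_dvd_natCard _ hmem
    · intro h
      obtain ⟨y, hy⟩ := exists_prime_orderOf_dvd_card' p h
      exact dvd_card_cent_of_commute (hall p hp) (x := (y : G)) (y := t) (by rw [Subgroup.orderOf_coe, hy]) ht
        (Subgroup.mem_centralizer_singleton_iff.1 y.2).symm (S p)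
  refine hnc (dvd_cent_of_unique (mem_primes hrl).1 (hall q hq) C ((hclass q hq).1 hb2)
    ((hclass r hr').1 hr2) ?_ hrq (S q))
  have hk : Nat.card (Sylow q C) * q ∣ Nat.card C := by
    obtain ⟨Q⟩ : Nonempty (Sylow q C) := inferInstance
    rw [← Small.card_normalizer_mul Q, mul_comm]
    exact Nat.mul_dvd_mul_right ((Q.dvd_card_of_dvd_card ((hclass q hq).1 hb2)).trans
      (Subgroup.card_dvd_of_le Subgroup.le_normalizer)) _
  refine uniq_sound hu ((Dvd.intro _ rfl).trans (hk.trans ((Subgroup.card_subgroup_dvd_card _).trans hm))) ?_ ?_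
  · rw [card_sylow_modEq_one q, Nat.mod_eq_of_lt (mem_primes hql).1.one_lt]
  · refine Nat.dvd_div_of_mul_dvd ?_
    rw [mul_comm]
    refine hk.trans (Nat.dvd_div_of_mul_dvd ?_)
    set L := ((ps.map fun p => (p, Nat.card (Sylow p G), Nat.card (cent (S p : Subgroup G)))).filter
      fun a => !decide (2 ∣ a.2.2)).map (·.1) with hL
    have hLmem : ∀ p ∈ L, p ∈ ps ∧ ¬ p ∣ Nat.card C := by
      intro p hp
      rw [hL] at hp
      obtain ⟨a, ha, rfl⟩ := List.mem_map.1 hp
      obtain ⟨ha1, ha2⟩ := List.mem_filter.1 ha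
      obtain ⟨p, hp', rfl⟩ := List.mem_map.1 ha1
      simp only [Bool.not_eq_true', decide_eq_false_iff_not] at ha2
      exact ⟨hp', fun h => ha2 ((hclass p hp').2 h)⟩
    refine Nat.Coprime.mul_dvd_of_dvd_of_dvd (Nat.coprime_list_prod_left_iff.2 fun p hp => ?_) ?_
      (Subgroup.card_subgroup_dvd_card _)
    · exact ((mem_primes (hps p (hLmem p hp).1).1).1.coprime_iff_not_dvd).2 (hLmem p hp).2
    · refine prod_dvd_of_primes L ?_ fun p hp =>
        ⟨(mem_primes (hps p (hLmem p hp).1).1).1, (hps p (hLmem p hp).1).2⟩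
      refine List.Nodup.sublist (List.Sublist.map _ List.filter_sublist) ?_
      rw [List.map_map, show ((fun x : Datum => x.1) ∘ fun p => (p, Nat.card (Sylow p G),
        Nat.card (cent (S p : Subgroup G)))) = id from rfl, List.map_id]
      exact hnd

theorem ruleC_ok (hm : Nat.card G ∣ 175560) (S : ∀ p, Sylow p G) (ps : List ℕ)
    (hps : ∀ p ∈ ps, p ∈ [19, 11, 7, 5, 3] ∧ p ∣ Nat.card G) (hnd : ps.Nodup) :
    ruleC (Nat.card G) (ps.map fun p => datum p (S p)) = true := by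
  rw [ruleC, List.all_eq_true]
  intro T hT
  obtain ⟨qs, hqs, rfl⟩ := List.sublist_map_iff.1 (List.mem_sublists.1 hT)
  rw [Bool.or_eq_true, decide_eq_true_eq]
  by_contra hcon
  push Not at hcon
  obtain ⟨hno, hsum⟩ := hcon
  have hdis : ∀ p ∈ qs, ∀ q ∈ qs, p ≠ q → Disjoint (multSet G p) (multSet G q) := by
    intro p hp q hq hpq
    haveI : Fact p.Prime := ⟨(mem_primes (hps p (hqs.subset hp)).1).1⟩
    haveI : Fact q.Prime := ⟨(mem_primes (hps q (hqs.subset hq)).1).1⟩
    refine disjoint_multSet (card_sylow_prime (hps p (hqs.subset hp)).2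
      (fun h => (mem_primes (hps p (hqs.subset hp)).1).2.1 (h.trans hm))) (S p) fun h => hno ?_
    simp only [List.any_eq_true, List.mem_map]
    refine ⟨_, ⟨p, hp, rfl⟩, _, ⟨q, hq, rfl⟩, ?_⟩
    simp [datum, hpq, ← Nat.dvd_iff_mod_eq_zero, h]
  have key : ∀ l : List ℕ, (∀ p ∈ l, p ∈ qs) → l.Nodup →
      ((l.map fun p => datum p (S p)).map fun a => a.2.1 * (a.1 - 1) * (a.2.2 / a.1)).sum ≤
        ({g : G | ∃ p ∈ l, p ∣ orderOf g} : Set G).ncard := by
    intro l
    induction l with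
    | nil => intro _ _; simp
    | cons p l ih =>
      intro hl hnd'
      rw [List.nodup_cons] at hnd'
      have hpq := hl p List.mem_cons_self
      obtain ⟨hpl, hpd⟩ := hps p (hqs.subset hpq)
      haveI : Fact p.Prime := ⟨(mem_primes hpl).1⟩
      have hd2 : ¬ p * p ∣ Nat.card G := fun h => (mem_primes hpl).2.1 (h.trans hm)
      have hP := card_sylow_prime hpd hd2
      obtain ⟨c, hc⟩ : p ∣ Nat.card (cent (S p : Subgroup G)) :=
        (dvd_of_eq (hP (S p)).symm).trans (Subgroup.card_dvd_of_le (Small.le_centralizer_self _ (hP _)))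
      have hpc : ¬ p ∣ c := fun h => hd2
        ((hc ▸ Nat.mul_dvd_mul_left p h : p * p ∣ Nat.card (cent (S p : Subgroup G))).trans
          (Subgroup.card_subgroup_dvd_card _))
      have h1 := card_multSet_ge hP (fun P => (card_cent_eq P (S p)).trans hc) hpc
      have h2 := ih (fun q hq => hl q (List.mem_cons_of_mem _ hq)) hnd'.2
      have e : ({g : G | ∃ q ∈ p :: l, q ∣ orderOf g} : Set G) =
          multSet G p ∪ {g : G | ∃ q ∈ l, q ∣ orderOf g} := by
        ext g; simp [multSet]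
      rw [e, Set.ncard_union_eq ?_ (Set.toFinite _) (Set.toFinite _), List.map_cons, List.map_cons,
        List.sum_cons]
      · refine Nat.add_le_add (le_trans (le_of_eq ?_) h1) h2
        simp only [datum]
        rw [hc, Nat.mul_div_cancel_left _ (mem_primes hpl).1.pos, mul_assoc]
      · rw [Set.disjoint_left]
        rintro g hg ⟨q, hq, hgq⟩
        exact Set.disjoint_left.1 (hdis p hpq q (hl q (List.mem_cons_of_mem _ hq))
          (fun e => hnd'.1 (e ▸ hq))) hg hgq
  have h := key qs (fun _ h => h) (hnd.sublist hqs)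
  have hlt : ({g : G | ∃ p ∈ qs, p ∣ orderOf g} : Set G).ncard < Nat.card G := by
    rw [← Set.ncard_univ]
    refine Set.ncard_lt_ncard ⟨Set.subset_univ _, fun hh => ?_⟩ (Set.toFinite _)
    obtain ⟨p, hp, h1⟩ := hh (Set.mem_univ (1 : G))
    rw [orderOf_one] at h1
    exact (mem_primes (hps p (hqs.subset hp)).1).1.ne_one (Nat.dvd_one.1 h1)
  omega

theorem not_dvd_of_simple (hG : ¬ IsMulCommutative G) (hm : Nat.card G ∣ 175560) (hne : Nat.card G ≠ 175560) :
    ¬ 19 ∣ Nat.card G := by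
  classical
  intro h19
  have hsyl : ∀ p : ℕ, Nonempty (Sylow p G) := fun p => inferInstance
  let S : ∀ p, Sylow p G := fun p => (hsyl p).some
  set ps := oddPrimes (Nat.card G)
  have hps : ∀ p ∈ ps, p ∈ [19, 11, 7, 5, 3] ∧ p ∣ Nat.card G := by
    intro p hp
    obtain ⟨h1, h2⟩ := List.mem_filter.1 hp
    exact ⟨h1, Nat.dvd_of_mod_eq_zero (of_decide_eq_true h2)⟩
  have hnd : ps.Nodup := List.Nodup.filter _ (by decide)
  have hne19 : Nat.card G ≠ 19 := fun h => hG (by
    haveI : Fact (Nat.Prime 19) := ⟨by norm_num⟩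
    haveI := isCyclic_of_prime_card (α := G) h
    infer_instance)
  have key : Nat.card G ∈ divs.filter fun m => decide (m % 19 = 0) && !decide (m = 19) &&
      !decide (m = 175560) && !((build m (oddPrimes m)).all fun l => !survives m l) := by
    refine List.mem_filter.2 ⟨mem_divs hm, ?_⟩
    simp only [Bool.and_eq_true, decide_eq_true_eq, Bool.not_eq_true', decide_eq_false_iff_not]
    refine ⟨⟨⟨Nat.mod_eq_zero_of_dvd h19, hne19⟩, hne⟩, ?_⟩
    rw [List.all_eq_false]
    refine ⟨_, mem_build hG hm S ps hps hnd, ?_⟩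
    simp [survives, ruleE_ok hG hm S ps hps, ruleF_ok hG hm S ps hps hnd, ruleC_ok hm S ps hps hnd]
  rw [no_data] at key
  exact List.not_mem_nil key

end Cfsg.Agent.J1Order
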